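import Mathlib
import Groth.Prelude
import Groth.Agent.Lib.Helper7.SemiNorm.Basic
import Groth.Agent.Lib.Helper8.MN16

/-!
helper7: elements of the total fraction ring of a reduced Noetherian local ring whose denominator
ideal is primary to the maximal ideal are integral, as soon as the normalization has no maximal
ideal of height `≤ 1`.  Uses Mori–Nagata (`Helper8.MN.mori_nagata_local`).
-/

set_option linter.style.haveILetI false
set_option linter.unusedVariables false
set_option linter.unusedSectionVars false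
set_option linter.overlappingInstances false
set_option autoImplicit false
set_option backward.isDefEq.respectTransparency.types false
set_option backward.isDefEq.respectTransparency false
set_option synthInstance.maxHeartbeats 400000
set_option maxHeartbeats 1600000

universe u

open IsLocalRing Polynomial

namespace Groth.Agent.Helper7.PunctInt

section Proj

variable {A : Type u} [CommRing A]

theorem nzd_le_comap {p : Ideal A} (hp : p ∈ minimalPrimes A) :
    nonZeroDivisors A ≤ (nonZeroDivisors (A ⧸ p)).comap (Ideal.Quotient.mk p) := by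
  haveI : p.IsPrime := hp.1.1
  intro s hs
  rw [Submonoid.mem_comap]
  apply mem_nonZeroDivisors_of_ne_zero
  intro h0
  have h1 : s ∈ p := Ideal.Quotient.eq_zero_iff_mem.mp h0
  exact Set.disjoint_left.mp (Ideal.disjoint_nonZeroDivisors_of_mem_minimalPrimes hp) h1 hs

/-- The projection of the total ring of fractions to the fraction field of a component. -/
noncomputable def proj {p : Ideal A} (hp : p ∈ minimalPrimes A) :
    FractionRing A →+* FractionRing (A ⧸ p) :=
  IsLocalization.map (M := nonZeroDivisors A) (T := nonZeroDivisors (A ⧸ p))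
    (FractionRing (A ⧸ p)) (Ideal.Quotient.mk p) (nzd_le_comap hp)

theorem proj_algebraMap {p : Ideal A} (hp : p ∈ minimalPrimes A) (a : A) :
    proj hp (algebraMap A (FractionRing A) a) =
      algebraMap (A ⧸ p) (FractionRing (A ⧸ p)) (Ideal.Quotient.mk p a) :=
  IsLocalization.map_eq (nzd_le_comap hp) a

theorem eq_zero_of_forall_proj [IsReduced A] (z : FractionRing A)
    (h : ∀ (p : Ideal A) (hp : p ∈ minimalPrimes A), proj hp z = 0) : z = 0 := by
  obtain ⟨⟨u, v⟩, huv0⟩ := IsLocalization.surj (nonZeroDivisors A) z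
  have huv : z * algebraMap A (FractionRing A) (v : A) = algebraMap A (FractionRing A) u := huv0
  have h1 : u ∈ sInf (minimalPrimes A) := by
    rw [Ideal.mem_sInf]
    intro p hp
    haveI : p.IsPrime := hp.1.1
    have h2 := congrArg (proj hp) huv
    rw [map_mul, h p hp, zero_mul, proj_algebraMap] at h2
    have h3 : Ideal.Quotient.mk p u = 0 := by
      apply IsFractionRing.injective (A ⧸ p) (FractionRing (A ⧸ p))
      rw [← h2, map_zero]
    exact Ideal.Quotient.eq_zero_iff_mem.mp h3
  have h2 : sInf (minimalPrimes A) = (⊥ : Ideal A) := by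
    have h3 : sInf (minimalPrimes A) = (⊥ : Ideal A).radical :=
      Ideal.sInf_minimalPrimes (I := (⊥ : Ideal A))
    rw [h3, ← Ideal.zero_eq_bot]
    exact nilradical_eq_zero A
  rw [h2] at h1
  have hu : u = 0 := (Ideal.mem_bot).mp h1
  have hunit : IsUnit (algebraMap A (FractionRing A) (v : A)) := IsLocalization.map_units _ v
  rw [hu, map_zero] at huv
  exact (hunit.mul_left_eq_zero).mp huv

theorem isIntegral_of_forall_proj [IsReduced A] [IsNoetherianRing A] (z : FractionRing A)
    (h : ∀ (p : Ideal A) (hp : p ∈ minimalPrimes A), IsIntegral (A ⧸ p) (proj hp z)) :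
    IsIntegral A z := by
  classical
  have hfin := minimalPrimes.finite_of_isNoetherianRing A
  have hP : ∀ p : Ideal A, ∃ P : A[X], P.Monic ∧ ∀ (hp : p ∈ minimalPrimes A),
      P.eval₂ ((proj hp).comp (algebraMap A (FractionRing A))) (proj hp z) = 0 := by
    intro p
    by_cases hp : p ∈ minimalPrimes A
    · haveI : p.IsPrime := hp.1.1
      obtain ⟨Q, hQ, hQ0⟩ := h p hp
      obtain ⟨P, hPQ, -, hPm⟩ := Polynomial.lifts_and_natDegree_eq_and_monic
        (Polynomial.mem_lifts_of_surjective (Ideal.Quotient.mk_surjective (I := p)) Q) hQ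
      refine ⟨P, hPm, fun hp' => ?_⟩
      have hcomp : (proj hp').comp (algebraMap A (FractionRing A)) =
          (algebraMap (A ⧸ p) (FractionRing (A ⧸ p))).comp (Ideal.Quotient.mk p) := by
        ext a
        exact proj_algebraMap hp' a
      rw [hcomp, ← Polynomial.eval₂_map, hPQ]
      exact hQ0
    · exact ⟨1, Polynomial.monic_one, fun hp' => absurd hp' hp⟩
  choose P hPm hP0 using hP
  refine ⟨∏ p ∈ hfin.toFinset, P p, Polynomial.monic_prod_of_monic _ _ (fun p _ => hPm p), ?_⟩
  apply eq_zero_of_forall_proj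
  intro p hp
  rw [Polynomial.hom_eval₂, Polynomial.eval₂_finsetProd]
  exact Finset.prod_eq_zero ((hfin.mem_toFinset).mpr hp) (hP0 p hp)

theorem isIntegral_proj {p : Ideal A} (hp : p ∈ minimalPrimes A) {z : FractionRing A}
    (hz : IsIntegral A z) : IsIntegral (A ⧸ p) (proj hp z) := by
  obtain ⟨P, hPm, hP0⟩ := hz
  refine ⟨P.map (Ideal.Quotient.mk p), hPm.map _, ?_⟩
  rw [Polynomial.eval₂_map]
  have hcomp : (algebraMap (A ⧸ p) (FractionRing (A ⧸ p))).comp (Ideal.Quotient.mk p) =
      (proj hp).comp (algebraMap A (FractionRing A)) := by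
    ext a
    exact (proj_algebraMap hp a).symm
  rw [hcomp, ← Polynomial.hom_eval₂, hP0, map_zero]

theorem exists_nzd_notMem [IsReduced A] [IsNoetherianRing A] (J : Ideal A) (P : Ideal A)
    [P.IsPrime] (hJP : ¬ J ≤ P) (hJ : ∀ q ∈ minimalPrimes A, ¬ J ≤ q) :
    ∃ s ∈ J, s ∉ P ∧ s ∈ nonZeroDivisors A := by
  classical
  have hfin := minimalPrimes.finite_of_isNoetherianRing A
  by_contra hcon
  push Not at hcon
  obtain ⟨q, hq, hle⟩ := (Ideal.subset_union_prime (R := A) (s := insert P hfin.toFinset)
      (f := fun q => q) ⊥ ⊥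
      (fun q hq _ _ => by
        rcases Finset.mem_insert.mp hq with h | hq'
        · rw [h]; exact ‹P.IsPrime›
        · exact ((hfin.mem_toFinset).mp hq').1.1)).mp (by
    intro s hs
    by_cases hsP : s ∈ P
    · exact Set.mem_iUnion₂.mpr ⟨P, Finset.mem_coe.mpr (Finset.mem_insert_self _ _), hsP⟩
    · have h2 := hcon s hs hsP
      by_contra h3
      refine h2 (SemiNorm.mem_nonZeroDivisors_of_forall_notMem fun q hq hsq => h3 ?_)
      exact Set.mem_iUnion₂.mpr ⟨q, Finset.mem_coe.mpr
        (Finset.mem_insert_of_mem ((hfin.mem_toFinset).mpr hq)), hsq⟩)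
  rcases Finset.mem_insert.mp hq with h | hq'
  · rw [h] at hle; exact hJP hle
  · exact hJ q ((hfin.mem_toFinset).mp hq') hle

theorem exists_proj_eq [IsReduced A] [IsNoetherianRing A] {p : Ideal A}
    (hp : p ∈ minimalPrimes A) (a b : A) (hb : b ∉ p) :
    ∃ x : FractionRing A,
      proj hp x * algebraMap (A ⧸ p) (FractionRing (A ⧸ p)) (Ideal.Quotient.mk p b) =
        algebraMap (A ⧸ p) (FractionRing (A ⧸ p)) (Ideal.Quotient.mk p a) ∧
      ∀ (q : Ideal A) (hq : q ∈ minimalPrimes A), q ≠ p → proj hq x = 0 := by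
  classical
  haveI hpp : p.IsPrime := hp.1.1
  have hfin := minimalPrimes.finite_of_isNoetherianRing A
  obtain ⟨S, hS⟩ : ∃ S : Finset (Ideal A), S = hfin.toFinset.erase p := ⟨_, rfl⟩
  have hSmem : ∀ q, q ∈ S ↔ q ∈ minimalPrimes A ∧ q ≠ p := by
    intro q
    rw [hS, Finset.mem_erase, hfin.mem_toFinset]
    exact and_comm
  obtain ⟨e, heS, hep⟩ : ∃ e : A, (∀ q ∈ S, e ∈ q) ∧ e ∉ p := by
    have h1 : ¬ (S.inf (fun q => q) ≤ p) := by
      intro hle
      obtain ⟨q, hqS, hqp⟩ := (Ideal.IsPrime.inf_le' hpp).mp hle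
      obtain ⟨hqmin, hqne⟩ := (hSmem q).mp hqS
      exact hqne (le_antisymm hqp (hp.2 ⟨hqmin.1.1, bot_le⟩ hqp))
    obtain ⟨e, heI, hep⟩ := SetLike.not_le_iff_exists.mp h1
    exact ⟨e, fun q hq => (Finset.inf_le hq : S.inf (fun q => q) ≤ q) heI, hep⟩
  obtain ⟨e', he'p, he'S⟩ : ∃ e' : A, e' ∈ p ∧ ∀ q ∈ S, e' ∉ q := by
    by_contra hcon
    push Not at hcon
    obtain ⟨q, hqS, hpq⟩ := (Ideal.subset_union_prime (R := A) (s := S) (f := fun q => q) ⊥ ⊥
        (fun q hq _ _ => ((hSmem q).mp hq).1.1.1)).mp (by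
      intro s hs
      obtain ⟨q, hq, hsq⟩ := hcon s hs
      exact Set.mem_iUnion₂.mpr ⟨q, Finset.mem_coe.mpr hq, hsq⟩)
    obtain ⟨hqmin, hqne⟩ := (hSmem q).mp hqS
    exact hqne (le_antisymm (hqmin.2 ⟨hpp, bot_le⟩ hpq) hpq)
  obtain ⟨d, hd⟩ : ∃ d : A, d = b * e + e' := ⟨_, rfl⟩
  have hdnzd : d ∈ nonZeroDivisors A := by
    apply SemiNorm.mem_nonZeroDivisors_of_forall_notMem
    intro q hq hdq
    by_cases hqp : q = p
    · rw [hqp] at hdq
      have h1 : b * e ∈ p := by
        have h2 := p.sub_mem hdq he'p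
        rwa [hd, add_sub_cancel_right] at h2
      exact (hpp.mem_or_mem h1).elim hb hep
    · have heq : e ∈ q := heS q ((hSmem q).mpr ⟨hq, hqp⟩)
      have h1 : e' ∈ q := by
        have h2 := q.sub_mem hdq (q.mul_mem_left b heq)
        rwa [hd, add_sub_cancel_left] at h2
      exact he'S q ((hSmem q).mpr ⟨hq, hqp⟩) h1
  have hspec : ∀ {q : Ideal A} (hq : q ∈ minimalPrimes A),
      proj hq (IsLocalization.mk' (FractionRing A) (a * e) (⟨d, hdnzd⟩ : nonZeroDivisors A)) *
        algebraMap (A ⧸ q) (FractionRing (A ⧸ q)) (Ideal.Quotient.mk q d) =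
      algebraMap (A ⧸ q) (FractionRing (A ⧸ q)) (Ideal.Quotient.mk q (a * e)) := by
    intro q hq
    have h := congrArg (proj hq)
      (IsLocalization.mk'_spec (FractionRing A) (a * e) (⟨d, hdnzd⟩ : nonZeroDivisors A))
    rw [map_mul, proj_algebraMap, proj_algebraMap] at h
    exact h
  refine ⟨IsLocalization.mk' (FractionRing A) (a * e) (⟨d, hdnzd⟩ : nonZeroDivisors A), ?_, ?_⟩
  · have h1 := hspec hp
    have hmkd : Ideal.Quotient.mk p d = Ideal.Quotient.mk p b * Ideal.Quotient.mk p e := by
      rw [hd, map_add, map_mul, Ideal.Quotient.eq_zero_iff_mem.mpr he'p, add_zero]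
    rw [hmkd, map_mul (Ideal.Quotient.mk p) a e, map_mul, map_mul, ← mul_assoc] at h1
    have hne : algebraMap (A ⧸ p) (FractionRing (A ⧸ p)) (Ideal.Quotient.mk p e) ≠ 0 := by
      intro h0
      have h2 := IsFractionRing.injective (A ⧸ p) (FractionRing (A ⧸ p))
        (h0.trans (map_zero _).symm)
      exact hep (Ideal.Quotient.eq_zero_iff_mem.mp h2)
    exact mul_right_cancel₀ hne h1
  · intro q hq hqp
    haveI : q.IsPrime := hq.1.1
    have heq : e ∈ q := heS q ((hSmem q).mpr ⟨hq, hqp⟩)
    have h1 := hspec hq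
    have h2 : Ideal.Quotient.mk q (a * e) = 0 :=
      Ideal.Quotient.eq_zero_iff_mem.mpr (q.mul_mem_left a heq)
    rw [h2, map_zero] at h1
    have hne : algebraMap (A ⧸ q) (FractionRing (A ⧸ q)) (Ideal.Quotient.mk q d) ≠ 0 := by
      intro h0
      have h3 := IsFractionRing.injective (A ⧸ q) (FractionRing (A ⧸ q))
        (h0.trans (map_zero _).symm)
      have hdq : d ∈ q := Ideal.Quotient.eq_zero_iff_mem.mp h3
      have h4 : e' ∈ q := by
        have h5 := q.sub_mem hdq (q.mul_mem_left b heq)
        rwa [hd, add_sub_cancel_left] at h5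
      exact he'S q ((hSmem q).mpr ⟨hq, hqp⟩) h4
    exact (mul_eq_zero.mp h1).resolve_right hne

end Proj

section Transfer

variable {A : Type u} [CommRing A] [IsReduced A] [IsNoetherianRing A]

/-- The projection of the normalization to the normalization of a component. -/
noncomputable def projInt {p : Ideal A} (hp : p ∈ minimalPrimes A) :
    integralClosure A (FractionRing A) →+* integralClosure (A ⧸ p) (FractionRing (A ⧸ p)) :=
  RingHom.codRestrict
    ((proj hp).comp (algebraMap (integralClosure A (FractionRing A)) (FractionRing A)))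
    (integralClosure (A ⧸ p) (FractionRing (A ⧸ p))) (fun z => isIntegral_proj hp z.2)

theorem projInt_coe {p : Ideal A} (hp : p ∈ minimalPrimes A)
    (z : integralClosure A (FractionRing A)) :
    ((projInt hp z : integralClosure (A ⧸ p) (FractionRing (A ⧸ p))) : FractionRing (A ⧸ p)) =
      proj hp (z : FractionRing A) := rfl

theorem isIntegral_of_proj_eq {p : Ideal A} (hp : p ∈ minimalPrimes A) (x : FractionRing A)
    (h1 : IsIntegral (A ⧸ p) (proj hp x))
    (h2 : ∀ (q : Ideal A) (hq : q ∈ minimalPrimes A), q ≠ p → proj hq x = 0) :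
    IsIntegral A x := by
  apply isIntegral_of_forall_proj
  intro q hq
  by_cases hqp : q = p
  · subst hqp
    exact h1
  · rw [h2 q hq hqp]
    exact isIntegral_zero

theorem projInt_surjective {p : Ideal A} (hp : p ∈ minimalPrimes A) :
    Function.Surjective (projInt hp) := by
  haveI hpp : p.IsPrime := hp.1.1
  intro y
  obtain ⟨a', b', hb', hy⟩ := IsFractionRing.div_surjective (A := A ⧸ p)
    (y : FractionRing (A ⧸ p))
  obtain ⟨a, rfl⟩ := Ideal.Quotient.mk_surjective a'
  obtain ⟨b, rfl⟩ := Ideal.Quotient.mk_surjective b'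
  have hbp : b ∉ p := by
    intro hbp
    exact nonZeroDivisors.ne_zero hb' (Ideal.Quotient.eq_zero_iff_mem.mpr hbp)
  obtain ⟨x, hx1, hx2⟩ := exists_proj_eq hp a b hbp
  have hne : algebraMap (A ⧸ p) (FractionRing (A ⧸ p)) (Ideal.Quotient.mk p b) ≠ 0 := by
    intro h0
    have h2 := IsFractionRing.injective (A ⧸ p) (FractionRing (A ⧸ p))
      (h0.trans (map_zero _).symm)
    exact nonZeroDivisors.ne_zero hb' h2
  have hxy : proj hp x = (y : FractionRing (A ⧸ p)) := by
    rw [← hy, eq_div_iff hne]
    exact hx1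
  have hxint : IsIntegral A x := by
    apply isIntegral_of_proj_eq hp x _ hx2
    rw [hxy]
    exact y.2
  exact ⟨⟨x, hxint⟩, Subtype.ext hxy⟩

theorem exists_idem {p : Ideal A} (hp : p ∈ minimalPrimes A) :
    ∃ e : integralClosure A (FractionRing A), projInt hp e = 1 ∧
      ∀ z : integralClosure A (FractionRing A), projInt hp z = 0 → z * e = 0 := by
  haveI hpp : p.IsPrime := hp.1.1
  obtain ⟨x, hx1, hx2⟩ := exists_proj_eq hp 1 1 (fun h => hpp.ne_top ((Ideal.eq_top_iff_one p).mpr h))
  rw [map_one, map_one, mul_one] at hx1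
  have hxint : IsIntegral A x := by
    apply isIntegral_of_proj_eq hp x _ hx2
    rw [hx1]
    exact isIntegral_one
  refine ⟨⟨x, hxint⟩, Subtype.ext hx1, ?_⟩
  intro z hz
  have hz0 : proj hp (z : FractionRing A) = 0 := congrArg Subtype.val hz
  apply Subtype.ext
  show (z : FractionRing A) * x = 0
  apply eq_zero_of_forall_proj
  intro q hq
  by_cases hqp : q = p
  · subst hqp
    rw [map_mul, hz0, zero_mul]
  · rw [map_mul, hx2 q hq hqp, mul_zero]

theorem exists_maximal_height_le_one {p : Ideal A} (hp : p ∈ minimalPrimes A)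
    (M' : Ideal (integralClosure (A ⧸ p) (FractionRing (A ⧸ p)))) [M'.IsMaximal]
    (hM' : M'.height ≤ 1) :
    ∃ N' : Ideal (integralClosure A (FractionRing A)), N'.IsMaximal ∧ N'.height ≤ 1 := by
  haveI hpp : p.IsPrime := hp.1.1
  obtain ⟨e, he1, he0⟩ := exists_idem hp
  have hsurj := projInt_surjective hp
  haveI hN : (M'.comap (projInt hp)).IsMaximal := Ideal.comap_isMaximal_of_surjective _ hsurj
  haveI hNp : (M'.comap (projInt hp)).IsPrime := hN.isPrime
  refine ⟨M'.comap (projInt hp), hN, ?_⟩
  have heN : e ∉ M'.comap (projInt hp) := by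
    intro h
    rw [Ideal.mem_comap, he1] at h
    exact (Ideal.IsMaximal.ne_top ‹M'.IsMaximal›) ((Ideal.eq_top_iff_one _).mpr h)
  have hker : ∀ (Q : Ideal (integralClosure A (FractionRing A))), Q.IsPrime → e ∉ Q →
      RingHom.ker (projInt hp) ≤ Q := by
    intro Q hQ heQ z hz
    have h1 : z * e ∈ Q := by
      rw [he0 z ((RingHom.mem_ker).mp hz)]
      exact zero_mem _
    exact (hQ.mem_or_mem h1).resolve_right heQ
  have hM'1 : M'.height ≤ ((1 : ℕ) : ℕ∞) := by exact_mod_cast hM'
  have h1' : (M'.comap (projInt hp)).height ≤ ((1 : ℕ) : ℕ∞) := by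
    rw [Ideal.height_le_iff]
    intro Q hQ hQN
    haveI := hQ
    have heQ : e ∉ Q := fun h => heN (hQN.le h)
    have hkQ := hker Q hQ heQ
    haveI hQbar : (Q.map (projInt hp)).IsPrime := Ideal.map_isPrime_of_surjective hsurj hkQ
    have hcm : (Q.map (projInt hp)).comap (projInt hp) = Q := by
      rw [Ideal.comap_map_of_surjective _ hsurj, ← RingHom.ker_eq_comap_bot]
      exact sup_eq_left.mpr hkQ
    have hlt : Q.map (projInt hp) < M' := by
      refine lt_of_le_of_ne (Ideal.map_le_iff_le_comap.mpr hQN.le) ?_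
      intro heq
      rw [heq] at hcm
      exact hQN.ne hcm.symm
    have h2 : (Q.map (projInt hp)).height < ((1 : ℕ) : ℕ∞) :=
      (Ideal.height_le_iff.mp hM'1) _ hQbar hlt
    have h3 : (Q.map (projInt hp)).height = 0 :=
      Order.lt_one_iff.mp (by exact_mod_cast h2)
    have h4 : Q.map (projInt hp) = ⊥ := Ideal.height_eq_zero_iff_eq_bot.mp h3
    have h5 : Q = RingHom.ker (projInt hp) := by
      rw [← hcm, h4, RingHom.ker_eq_comap_bot]
    have h6 : Q ∈ minimalPrimes (integralClosure A (FractionRing A)) := by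
      refine ⟨⟨hQ, bot_le⟩, ?_⟩
      rintro Q' ⟨hQ'prime, -⟩ hQ'Q
      have heQ' : e ∉ Q' := fun h => heQ (hQ'Q h)
      rw [h5]
      exact hker Q' hQ'prime heQ'
    rw [Ideal.height_eq_zero_iff.mpr h6]
    exact_mod_cast zero_lt_one
  exact_mod_cast h1'

end Transfer

section Dom

theorem isIntegral_of_domain (D : Type u) [CommRing D] [IsDomain D] [IsNoetherianRing D]
    [IsLocalRing D] (L : Type u) [Field L] [Algebra D L] [IsFractionRing D L] (y : L)
    (h1 : ∀ (P : Ideal D) [P.IsPrime], P ≠ maximalIdeal D →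
      ∃ a : D, a ∉ P ∧ ∃ b : D, algebraMap D L a * y = algebraMap D L b)
    (h2 : ∀ (M' : Ideal (integralClosure D L)) [M'.IsMaximal], ¬ M'.height ≤ 1) :
    IsIntegral D y := by
  obtain ⟨C, hfin, -, hb, -⟩ := Groth.Agent.Helper8.MN.mori_nagata_local D L
  haveI := hfin
  haveI : Algebra.IsIntegral D C := Algebra.IsIntegral.of_finite D C
  have hCle : C ≤ integralClosure D L := by
    intro c hc
    exact (Algebra.IsIntegral.isIntegral (R := D) (⟨c, hc⟩ : C)).map C.val
  have hmem : y ∈ integralClosure D L := by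
    rw [hb y]
    intro p hp hp1
    haveI := hp
    by_cases hP : p.comap (algebraMap D C) = maximalIdeal D
    · exfalso
      letI : Algebra C (integralClosure D L) := (Subalgebra.inclusion hCle).toRingHom.toAlgebra
      have hinj : Function.Injective (algebraMap C (integralClosure D L)) :=
        Subalgebra.inclusion_injective hCle
      haveI : Algebra.IsIntegral C (integralClosure D L) := by
        refine ⟨fun z => ?_⟩
        obtain ⟨f, hf, hf0⟩ := z.2
        refine ⟨f.map (algebraMap D C), hf.map _, ?_⟩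
        apply Subtype.ext
        rw [Polynomial.eval₂_map]
        have h := Polynomial.hom_eval₂ f
          ((algebraMap C (integralClosure D L)).comp (algebraMap D C))
          (integralClosure D L).val.toRingHom z
        have hcomp : ((integralClosure D L).val.toRingHom).comp
            ((algebraMap C (integralClosure D L)).comp (algebraMap D C)) = algebraMap D L := by
          ext d
          rfl
        rw [hcomp] at h
        exact h.trans hf0
      haveI hpmax : p.IsMaximal :=
        Ideal.isMaximal_of_isIntegral_of_isMaximal_comap (R := D) p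
          (by rw [hP]; exact maximalIdeal.isMaximal D)
      obtain ⟨M', hM'max, hM'p⟩ :=
        Ideal.exists_ideal_over_maximal_of_isIntegral (S := integralClosure D L) p
          (by rw [(RingHom.injective_iff_ker_eq_bot _).mp hinj]; exact bot_le)
      haveI := hM'max
      apply h2 M'
      have h3 : M'.height ≤ ((1 : ℕ) : ℕ∞) := by
        rw [Ideal.height_le_iff]
        intro Q hQ hQM
        haveI := hQ
        have h4 : Q.comap (algebraMap C (integralClosure D L)) <
            M'.comap (algebraMap C (integralClosure D L)) := Ideal.IsIntegral.comap_lt_comap hQM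
        rw [hM'p] at h4
        haveI : (Q.comap (algebraMap C (integralClosure D L))).IsPrime := Ideal.comap_isPrime _ _
        have h5 := Ideal.height_add_one_le_of_lt_of_isPrime h4
        rw [hp1] at h5
        have h6 : (Q.comap (algebraMap C (integralClosure D L))).height = 0 := by
          by_contra hne
          have h7 : (1 : ℕ∞) ≤ (Q.comap (algebraMap C (integralClosure D L))).height :=
            Order.one_le_iff_ne_zero.mpr hne
          have h8 : (1 : ℕ∞) + 1 ≤ 1 := (add_le_add h7 le_rfl).trans h5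
          have h9 : ((2 : ℕ) : ℕ∞) ≤ ((1 : ℕ) : ℕ∞) := by
            have h10 : ((2 : ℕ) : ℕ∞) = 1 + 1 := by norm_num
            rw [h10]
            exact_mod_cast h8
          exact absurd (Nat.cast_le.mp h9) (by norm_num)
        have h7 : Q.comap (algebraMap C (integralClosure D L)) = ⊥ :=
          Ideal.height_eq_zero_iff_eq_bot.mp h6
        have h8 : Q = ⊥ := Ideal.eq_bot_of_comap_eq_bot h7
        rw [h8, Ideal.height_bot]
        exact_mod_cast zero_lt_one
      exact_mod_cast h3
    · obtain ⟨a, haP, b, hab⟩ := h1 (p.comap (algebraMap D C)) hP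
      refine ⟨algebraMap D C a, haP, ?_⟩
      have h3 : ((algebraMap D C a : C) : L) * y = algebraMap C L (algebraMap D C b) := hab
      rw [h3]
      exact isIntegral_algebraMap
  exact hmem

end Dom

section Main

variable (A : Type u) [CommRing A] [IsLocalRing A] [IsReduced A] [IsNoetherianRing A]

theorem maximalIdeal_notMem_minimalPrimes
    (hdim : ∀ (m' : Ideal (integralClosure A (FractionRing A))) [m'.IsMaximal],
      m'.comap (algebraMap A (integralClosure A (FractionRing A))) = maximalIdeal A →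
        2 ≤ ringKrullDim (Localization.AtPrime m')) :
    maximalIdeal A ∉ minimalPrimes A := by
  intro hmin
  obtain ⟨N', hN'⟩ := Ideal.exists_maximal (integralClosure A (FractionRing A))
  haveI := hN'
  haveI hcmax : (N'.comap (algebraMap A (integralClosure A (FractionRing A)))).IsMaximal :=
    Ideal.isMaximal_comap_of_isIntegral_of_isMaximal N'
  have hcomap : N'.comap (algebraMap A (integralClosure A (FractionRing A))) = maximalIdeal A :=
    IsLocalRing.eq_maximalIdeal hcmax
  have h2 := hdim N' hcomap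
  rw [IsLocalization.AtPrime.ringKrullDim_eq_height N' (Localization.AtPrime N')] at h2
  have hminN : N' ∈ minimalPrimes (integralClosure A (FractionRing A)) := by
    refine ⟨⟨hN'.isPrime, bot_le⟩, ?_⟩
    rintro Q ⟨hQ, -⟩ hQN
    haveI := hQ
    by_contra hnle
    have hlt : Q < N' := lt_of_le_of_ne hQN (fun h => hnle (h ▸ le_rfl))
    have h3 : Q.comap (algebraMap A (integralClosure A (FractionRing A))) <
        N'.comap (algebraMap A (integralClosure A (FractionRing A))) :=
      Ideal.IsIntegral.comap_lt_comap hlt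
    rw [hcomap] at h3
    haveI : (Q.comap (algebraMap A (integralClosure A (FractionRing A)))).IsPrime :=
      Ideal.comap_isPrime _ _
    have h4 := hmin.2 ⟨Ideal.comap_isPrime (algebraMap A (integralClosure A (FractionRing A))) Q,
      bot_le⟩ h3.le
    exact h3.not_ge h4
  have h0 : N'.height = 0 := Ideal.height_eq_zero_iff.mpr hminN
  rw [h0] at h2
  have h2' : ((2 : ℕ∞) : WithBot ℕ∞) ≤ ((0 : ℕ∞) : WithBot ℕ∞) := h2
  have h3 : (2 : ℕ∞) ≤ 0 := WithBot.coe_le_coe.mp h2'
  have h4 : ((2 : ℕ) : ℕ∞) ≤ ((0 : ℕ) : ℕ∞) := by exact_mod_cast h3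
  exact absurd (Nat.cast_le.mp h4) (by norm_num)

theorem isIntegral_of_forall_pow_mul
    (hdim : ∀ (m' : Ideal (integralClosure A (FractionRing A))) [m'.IsMaximal],
      m'.comap (algebraMap A (integralClosure A (FractionRing A))) = maximalIdeal A →
        2 ≤ ringKrullDim (Localization.AtPrime m'))
    (x : FractionRing A)
    (hx : ∀ g ∈ maximalIdeal A, g ∈ nonZeroDivisors A → ∃ (n : ℕ) (a : A),
      algebraMap A (FractionRing A) g ^ n * x = algebraMap A (FractionRing A) a) :
    IsIntegral A x := by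
  classical
  have hm := maximalIdeal_notMem_minimalPrimes A hdim
  have hmq : ∀ q ∈ minimalPrimes A, ¬ maximalIdeal A ≤ q := by
    intro q hq hle
    have hqe : maximalIdeal A = q := (maximalIdeal.isMaximal A).eq_of_le hq.1.1.ne_top hle
    exact hm (hqe ▸ hq)
  apply isIntegral_of_forall_proj
  intro p hp
  haveI hpp : p.IsPrime := hp.1.1
  haveI : Nontrivial (A ⧸ p) := Ideal.Quotient.nontrivial_iff.mpr hpp.ne_top
  haveI : IsLocalRing (A ⧸ p) :=
    IsLocalRing.of_surjective' (Ideal.Quotient.mk p) Ideal.Quotient.mk_surjective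
  refine isIntegral_of_domain (A ⧸ p) (FractionRing (A ⧸ p)) (proj hp x) ?_ ?_
  · intro P hP hPne
    haveI := hP
    haveI hP0 : (P.comap (Ideal.Quotient.mk p)).IsPrime := Ideal.comap_isPrime _ _
    have hnle : ¬ maximalIdeal A ≤ P.comap (Ideal.Quotient.mk p) := by
      intro hle
      obtain ⟨u', hu'm, hu'P⟩ := SetLike.exists_of_lt
        (lt_of_le_of_ne (IsLocalRing.le_maximalIdeal hP.ne_top) hPne)
      obtain ⟨u, rfl⟩ := Ideal.Quotient.mk_surjective u'
      have hum : u ∈ maximalIdeal A := by
        rw [IsLocalRing.mem_maximalIdeal, mem_nonunits_iff]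
        intro hu
        exact ((IsLocalRing.mem_maximalIdeal _).mp hu'm) (hu.map (Ideal.Quotient.mk p))
      exact hu'P (hle hum)
    obtain ⟨g, hgm, hgP, hgnzd⟩ := exists_nzd_notMem (maximalIdeal A)
      (P.comap (Ideal.Quotient.mk p)) hnle hmq
    obtain ⟨n, a, hna⟩ := hx g hgm hgnzd
    have h3 := congrArg (proj hp) hna
    rw [map_mul, map_pow, proj_algebraMap, proj_algebraMap] at h3
    refine ⟨(Ideal.Quotient.mk p g) ^ n, ?_, Ideal.Quotient.mk p a, ?_⟩
    · intro hmem
      exact hgP (hP.mem_of_pow_mem n hmem)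
    · rw [map_pow]
      exact h3
  · intro M' hM'max hM'
    haveI := hM'max
    obtain ⟨N', hN'max, hN'h⟩ := exists_maximal_height_le_one hp M' hM'
    haveI := hN'max
    haveI hcmax : (N'.comap (algebraMap A (integralClosure A (FractionRing A)))).IsMaximal :=
      Ideal.isMaximal_comap_of_isIntegral_of_isMaximal N'
    have hcomap : N'.comap (algebraMap A (integralClosure A (FractionRing A))) = maximalIdeal A :=
      IsLocalRing.eq_maximalIdeal hcmax
    have h3 := hdim N' hcomap
    rw [IsLocalization.AtPrime.ringKrullDim_eq_height N' (Localization.AtPrime N')] at h3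
    have h3' : ((2 : ℕ∞) : WithBot ℕ∞) ≤ ((N'.height : ℕ∞) : WithBot ℕ∞) := h3
    have h4 : (2 : ℕ∞) ≤ N'.height := WithBot.coe_le_coe.mp h3'
    have h5 : ((2 : ℕ) : ℕ∞) ≤ ((1 : ℕ) : ℕ∞) := by exact_mod_cast (h4.trans hN'h)
    exact absurd (Nat.cast_le.mp h5) (by norm_num)

theorem exists_nzd_mem_maximalIdeal
    (hdim : ∀ (m' : Ideal (integralClosure A (FractionRing A))) [m'.IsMaximal],
      m'.comap (algebraMap A (integralClosure A (FractionRing A))) = maximalIdeal A →
        2 ≤ ringKrullDim (Localization.AtPrime m')) :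
    ∃ f ∈ maximalIdeal A, f ∈ nonZeroDivisors A := by
  have hm := maximalIdeal_notMem_minimalPrimes A hdim
  apply SemiNorm.exists_mem_nonZeroDivisors_of_forall_not_le
  intro q hq hle
  have hqe : maximalIdeal A = q := (maximalIdeal.isMaximal A).eq_of_le hq.1.1.ne_top hle
  exact hm (hqe ▸ hq)

end Main

end Groth.Agent.Helper7.PunctInt
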