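import Mathlib
import Groth.Prelude
import Groth.Agent.Lib.Helper7.PunctInt.Alg
import Groth.Agent.Lib.Helper4.Hartogs1

/-!
helper7: sections of the structure sheaf over an open `U ⊆ Spec A` containing `D(g)` for all
`g ∈ m` (e.g. the punctured spectrum) embed into the normalization when the latter has no
maximal ideal of height `≤ 1`.
-/

set_option linter.style.haveILetI false
set_option linter.unusedVariables false
set_option linter.unusedSectionVars false
set_option linter.overlappingInstances false
set_option autoImplicit false
set_option backward.isDefEq.respectTransparency.types false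
set_option backward.isDefEq.respectTransparency false
set_option synthInstance.maxHeartbeats 400000
set_option maxHeartbeats 1600000

universe u

open CategoryTheory CategoryTheory.Limits AlgebraicGeometry TopologicalSpace IsLocalRing Opposite
open Groth.Agent.Lib.Helper4.Hartogs1

namespace Groth.Agent.Helper7.PunctInt

section Geo

variable (A : Type u) [CommRing A]

/-- Restriction of sections as a ring homomorphism. -/
noncomputable def resHom {U V : Opens (PrimeSpectrum.Top A)} (h : V ≤ U) :
    Sec A A U →+* Sec A A V where
  toFun := (structureSheafInType A A).obj.map (homOfLE h).op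
  map_one' := rfl
  map_mul' _ _ := rfl
  map_zero' := rfl
  map_add' _ _ := rfl

theorem resHom_algebraMap {U V : Opens (PrimeSpectrum.Top A)} (h : V ≤ U) (a : A) :
    resHom A h (algebraMap A (Sec A A U) a) = algebraMap A (Sec A A V) a := rfl

variable {A}

theorem toOpen_eq_algebraMap (U : Opens (PrimeSpectrum.Top A)) (a : A) :
    StructureSheaf.toOpenₗ A A U a = algebraMap A (Sec A A U) a := rfl

theorem smul_eq_algebraMap_mul {U : Opens (PrimeSpectrum.Top A)} (r : A) (s : Sec A A U) :
    r • s = algebraMap A (Sec A A U) r * s := by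
  apply sec_ext
  intro z
  exact Algebra.smul_def r (s.1 z)

theorem exists_pow_smul_eq {U : Opens (PrimeSpectrum.Top A)} {x : A}
    (hle : PrimeSpectrum.basicOpen x ≤ U) (hx : IsSMulRegular A x) (s : Sec A A U) :
    ∃ (k : ℕ) (a : A), x ^ k • s = StructureSheaf.toOpenₗ A A U a := by
  let s' : Sec A A (PrimeSpectrum.basicOpen x) := (structureSheafInType A A).obj.map hle.hom.op s
  obtain ⟨⟨m, ⟨c, k, rfl⟩⟩, hm⟩ := IsLocalizedModule.surj (Submonoid.powers x)
    (StructureSheaf.toOpenₗ A A (PrimeSpectrum.basicOpen x)) s'
  refine ⟨k, m, ?_⟩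
  rw [← sub_eq_zero]
  apply sec_eq_zero_of_vanish_basicOpen hx
  intro z hz
  rw [sub_apply', structureSheafInType.smul_apply, toOpen_apply, sub_eq_zero]
  have := congrArg (fun t => t.1 ⟨z.1, hz⟩) hm
  simp only [Submonoid.smul_def, structureSheafInType.smul_apply, toOpen_apply] at this
  exact this

variable (A) [IsLocalRing A] [IsReduced A] [IsNoetherianRing A]

theorem main (U : Opens (PrimeSpectrum.Top A))
    (hU : ∀ g ∈ maximalIdeal A, PrimeSpectrum.basicOpen g ≤ U)
    (hdim : ∀ (m' : Ideal (integralClosure A (FractionRing A))) [m'.IsMaximal],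
      m'.comap (algebraMap A (integralClosure A (FractionRing A))) = maximalIdeal A →
        2 ≤ ringKrullDim (Localization.AtPrime m')) :
    (algebraMap A (Sec A A U)).IsIntegral ∧
      ∃ φ : Sec A A U →+* integralClosure A (FractionRing A), Function.Injective φ ∧
        φ.comp (algebraMap A (Sec A A U)) =
          algebraMap A (integralClosure A (FractionRing A)) := by
  obtain ⟨f, hfm, hfnzd⟩ := exists_nzd_mem_maximalIdeal A hdim
  have hfreg : IsSMulRegular A f :=
    (isRegular_iff_mem_nonZeroDivisors.mpr hfnzd).left.isSMulRegular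
  have hle := hU f hfm
  have hunits : ∀ y : Submonoid.powers f, IsUnit (algebraMap A (FractionRing A) (y : A)) := by
    rintro ⟨y, n, rfl⟩
    exact IsLocalization.map_units (FractionRing A)
      (⟨f ^ n, pow_mem hfnzd n⟩ : nonZeroDivisors A)
  obtain ⟨θ, hθ⟩ : ∃ θ : Sec A A (PrimeSpectrum.basicOpen f) →+* FractionRing A,
      ∀ a : A, θ (algebraMap A (Sec A A (PrimeSpectrum.basicOpen f)) a) =
        algebraMap A (FractionRing A) a :=
    ⟨IsLocalization.lift (M := Submonoid.powers f) (S := Sec A A (PrimeSpectrum.basicOpen f))
      (g := algebraMap A (FractionRing A)) hunits, fun a => IsLocalization.lift_eq hunits a⟩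
  have hθinj : Function.Injective θ := by
    rw [injective_iff_map_eq_zero]
    intro t ht
    obtain ⟨⟨b, c⟩, hbc0⟩ := IsLocalization.surj (Submonoid.powers f) t
    have hbc : t * algebraMap A (Sec A A (PrimeSpectrum.basicOpen f)) (c : A) =
        algebraMap A (Sec A A (PrimeSpectrum.basicOpen f)) b := hbc0
    have h1 := congrArg θ hbc
    rw [map_mul, ht, zero_mul, hθ] at h1
    have hb0 : b = 0 := by
      apply IsLocalization.injective (FractionRing A) (le_refl (nonZeroDivisors A))
      rw [← h1, map_zero]
    rw [hb0, map_zero] at hbc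
    have hcu : IsUnit (algebraMap A (Sec A A (PrimeSpectrum.basicOpen f)) (c : A)) :=
      IsLocalization.map_units _ c
    exact (hcu.mul_left_eq_zero).mp hbc
  have hφalg : ∀ a : A, (θ.comp (resHom A hle)) (algebraMap A (Sec A A U) a) =
      algebraMap A (FractionRing A) a := by
    intro a
    show θ (resHom A hle (algebraMap A (Sec A A U) a)) = _
    rw [resHom_algebraMap]
    exact hθ a
  have hφinj : Function.Injective (θ.comp (resHom A hle)) := by
    rw [injective_iff_map_eq_zero]
    intro s hs
    have h1 : resHom A hle s = 0 := hθinj (by rw [map_zero]; exact hs)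
    apply sec_eq_zero_of_vanish_basicOpen hfreg
    intro z hz
    have h2 := congrArg (fun t => t.1 ⟨z.1, hz⟩) h1
    exact h2
  have hkey : ∀ s : Sec A A U, IsIntegral A ((θ.comp (resHom A hle)) s) := by
    intro s
    apply isIntegral_of_forall_pow_mul A hdim
    intro g hgm hgnzd
    have hgreg : IsSMulRegular A g :=
      (isRegular_iff_mem_nonZeroDivisors.mpr hgnzd).left.isSMulRegular
    obtain ⟨k, a, hka⟩ := exists_pow_smul_eq (hU g hgm) hgreg s
    refine ⟨k, a, ?_⟩
    have h1 := congrArg (θ.comp (resHom A hle)) hka
    rw [smul_eq_algebraMap_mul, map_mul, hφalg, toOpen_eq_algebraMap, hφalg, map_pow] at h1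
    exact h1
  have hρint : (algebraMap A (Sec A A U)).IsIntegral := by
    intro s
    obtain ⟨P, hPm, hP0⟩ := hkey s
    refine ⟨P, hPm, hφinj ?_⟩
    rw [map_zero, Polynomial.hom_eval₂]
    have hcomp : (θ.comp (resHom A hle)).comp (algebraMap A (Sec A A U)) =
        algebraMap A (FractionRing A) := by
      ext a
      exact hφalg a
    rw [hcomp]
    exact hP0
  refine ⟨hρint, RingHom.codRestrict (θ.comp (resHom A hle))
    (integralClosure A (FractionRing A)) (fun s => hkey s), ?_, ?_⟩
  · intro s t hst
    apply hφinj
    exact congrArg Subtype.val hst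
  · ext a
    exact hφalg a

end Geo

end Groth.Agent.Helper7.PunctInt
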